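import Cfsg.Agent.Lib.FT.Reduction
import Cfsg.Agent.Lib.PF.Base.Assembly
import Cfsg.Agent.Lib.PF.NoTypeFive
import Cfsg.Agent.S1472

/-!
# The odd order theorem
-/

set_option autoImplicit false

namespace CfsgLib.FT

universe u

/-- The base facts about the members of type `P`. -/
theorem typePBase : CfsgLib.PF.Interface.TypePBase.{u} :=
  CfsgLib.PF.Base.typePBase_of_noTypeFive CfsgLib.PF.noTypeFive

/-- The field lemma. -/
theorem fieldLemma : FieldLemma.{u} := by
  intro G _ _ p q _ _ hA F _ _ hF P U Q f ψ hf hfadd hUP hψ hψmul hψinj hUcard hQ hQp hP0Q y hy hP0U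
  exact Cfsg.Agent.S1472.result p q hA F hF P U Q f ψ hf hfadd hUP hψ hψmul hψinj hUcard hQ hQp
    hP0Q y hy hP0U

/-- Feit–Thompson: a finite group of odd order is solvable. -/
theorem odd_order_solvable {G : Type u} [Group G] [Finite G] (hG : Odd (Nat.card G)) :
    Group.IsSolvable G :=
  odd_order_solvable_of typePBase fieldLemma hG

end CfsgLib.FT
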