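import Cfsg.Agent.Lib.PF.Assembly
import Cfsg.Agent.Lib.PF.Final14
import Cfsg.Agent.Lib.PF.TypePData
import Cfsg.Agent.Lib.BG.TypeOne
import Cfsg.Agent.S1541

/-!
# The odd order theorem from `TypePBase` and the field lemma
-/

set_option autoImplicit false

namespace CfsgLib.FT

open Subgroup CfsgLib.PF

universe u

/-- The statement of the field lemma (the shape of the final contradiction). -/
def FieldLemma : Prop :=
  ∀ {G : Type u} [Group G] [Finite G] (p q : ℕ) [Fact p.Prime] [Fact q.Prime],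
    Nat.Coprime ((p ^ q - 1) / (p - 1)) (p - 1) →
    ∀ (F : Type) [Field F] [Fintype F], Fintype.card F = p ^ q →
    ∀ (P U Q : Subgroup G) (f ψ : G → F), Set.BijOn f (P : Set G) Set.univ →
    (∀ x ∈ P, ∀ z ∈ P, f (x * z) = f x + f z) → U ≤ normalizer (P : Set G) →
    (∀ u ∈ U, ψ u ≠ 0 ∧ ∀ x ∈ P, f (u * x * u⁻¹) = ψ u * f x) →
    (∀ u ∈ U, ∀ v ∈ U, ψ (u * v) = ψ u * ψ v) → Set.InjOn ψ (U : Set G) →
    Nat.card U * (p - 1) = p ^ q - 1 → IsMulCommutative Q → (Nat.card Q).Coprime p →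
    (∀ x ∈ P, f x ^ p = f x → x ∈ normalizer (Q : Set G)) →
    ∀ y : G, y ∈ Q → (∀ x ∈ P, f x ^ p = f x → y * x * y⁻¹ ∈ normalizer (U : Set G)) →
    p ≤ q

/-- Type I or type P. -/
theorem typeI_or_typeP {G : Type u} [Group G] [Finite G] (hG : Cfsg.IsMinSimpleOddOrder G)
    (M : Subgroup G) (hM : IsCoatom M) :
    Cfsg.IsOfTypeI M ∨ ∃ W₁ U W₂ : Subgroup G, Cfsg.IsTypePWith M W₁ U W₂ := by
  obtain ⟨K, U, h⟩ := CfsgLib.BG.exists_sigma_decomposition hG hM
  by_cases hK : K = ⊥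
  · exact Or.inl (CfsgLib.BG.isOfTypeI_of_decomp hG hM h hK)
  · obtain ⟨V, hV, hVn, hKV, -, -⟩ := CfsgLib.BG.exists_derived_compl hG hM h hK
    exact Or.inr ⟨_, _, _, CfsgLib.BG.isTypePWith hG hM h hK hV hVn hKV⟩

/-- There is no minimal simple group of odd order. -/
theorem no_minSimple (hbase : Interface.TypePBase.{u}) (hfield : FieldLemma.{u})
    {G : Type u} [Group G] [Finite G] (hG : Cfsg.IsMinSimpleOddOrder G) : False := by
  refine no_minSimple_of_final typePPartner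
    (fun hG' => Cfsg.Agent.S1541.result hG') (fun hG' M hM => typeI_or_typeP hG' M hM) ?_ hG
  intro X _ _ S T W₁ W₂ U V h hlt
  letI := Fintype.ofFinite X
  obtain ⟨hq, hp, -, -, -, hUc, -, hA, hUP, hcop, hQel, hW2n, y, hy, hyU, F, iF, iFt, f, ψ, hF,
      hf, hadd, hψ, hmul, hinj, hpf⟩ :=
    F14.final_configuration hbase (fun M hM hκ => CfsgLib.BG.isOfTypeI_of_kappa_empty h.minSimple hM hκ)
      (fun M hM hI => Cfsg.Agent.S1540.result h.minSimple M hM hI) h hlt
  haveI := Fact.mk hp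
  haveI := Fact.mk hq
  refine absurd (hfield (Nat.card W₂) (Nat.card W₁) hA F hF _ U _ f ψ hf hadd hUP hψ hmul hinj hUc
    hQel.1 hcop (fun x hx he => hW2n ((hpf x hx).mpr he)) y hy
    (fun x hx he => hyU ⟨x, (hpf x hx).mpr he, rfl⟩)) (not_le.mpr hlt)

/-- The odd order theorem from its two remaining inputs. -/
theorem odd_order_solvable_of (hbase : Interface.TypePBase.{u}) (hfield : FieldLemma.{u})
    {G : Type u} [Group G] [Finite G] (hodd : Odd (Nat.card G)) : Group.IsSolvable G :=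
  odd_solvable_of_no_minSimple (fun hG => no_minSimple hbase hfield hG) hodd

end CfsgLib.FT
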