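import Cfsg.Prelude.Def_Perm
import Cfsg.Agent.Lib.Solvable.MinNormal
import Cfsg.Agent.Lib.StructC.HuppertRegular

/-!
# 2-homogeneous groups which are not 2-transitive, given that groups of odd order are solvable
-/

set_option autoImplicit false
set_option linter.style.haveILetI false

namespace CfsgLib.FT.TwoHomogeneous

open Subgroup MulAction
open scoped Pointwise

universe u

variable {α : Type u} [Fintype α] [DecidableEq α] {G : Subgroup (Equiv.Perm α)}

/-- Transitivity on unordered pairs, unfolded. -/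
theorem pair_move (h2 : MulAction.IsPretransitive G (Set.powersetCard α 2)) {a b c d : α}
    (hab : a ≠ b) (hcd : c ≠ d) :
    ∃ g : G, (g • a = c ∧ g • b = d) ∨ (g • a = d ∧ g • b = c) := by
  obtain ⟨g, hg⟩ := h2.exists_smul_eq
    (⟨{a, b}, Finset.card_pair hab⟩ : Set.powersetCard α 2) ⟨{c, d}, Finset.card_pair hcd⟩
  refine ⟨g, ?_⟩
  have hg' : ({g • a, g • b} : Finset α) = {c, d} := by
    have := congrArg Subtype.val hg
    change g • ({a, b} : Finset α) = {c, d} at this
    simpa [Finset.smul_finset_insert, Finset.smul_finset_singleton] using this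
  have hne : g • a ≠ g • b := fun e => hab (smul_left_cancel g e)
  have h1 : g • a ∈ ({c, d} : Finset α) := hg' ▸ Finset.mem_insert_self _ _
  have h3 : g • b ∈ ({c, d} : Finset α) := hg' ▸ Finset.mem_insert_of_mem (Finset.mem_singleton_self _)
  simp only [Finset.mem_insert, Finset.mem_singleton] at h1 h3
  rcases h1 with h1 | h1 <;> rcases h3 with h3 | h3
  · exact absurd (h1.trans h3.symm) hne
  · exact Or.inl ⟨h1, h3⟩
  · exact Or.inr ⟨h1, h3⟩
  · exact absurd (h1.trans h3.symm) hne

theorem three_le_card (hne : G ≠ ⊥) (hn2 : ¬ MulAction.IsMultiplyPretransitive G α 2) :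
    3 ≤ Fintype.card α := by
  by_contra h
  obtain ⟨g, hg, hg1⟩ := (G.bot_or_exists_ne_one).resolve_left hne
  obtain ⟨x, hx⟩ : ∃ x, g x ≠ x := by
    by_contra hh
    push Not at hh
    exact hg1 (Equiv.ext hh)
  have hall : ∀ z : α, z = x ∨ z = g x := by
    intro z
    by_contra hz
    push Not at hz
    have : ({z, x, g x} : Finset α).card = 3 := by
      rw [Finset.card_insert_of_notMem (by simp [hz.1, hz.2]), Finset.card_pair (Ne.symm hx)]
    have := Finset.card_le_univ ({z, x, g x} : Finset α)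
    omega
  have hgg : g (g x) = x := (hall (g (g x))).resolve_right fun e => hx (g.injective e)
  refine hn2 (MulAction.is_two_pretransitive_iff.mpr fun {a b c d} hab hcd => ?_)
  rcases hall a with rfl | rfl <;> rcases hall b with rfl | rfl <;> rcases hall c with rfl | rfl <;>
    rcases hall d with rfl | rfl <;> first
      | exact absurd rfl hab | exact absurd rfl hcd
      | exact ⟨1, one_smul _ _, one_smul _ _⟩
      | exact ⟨⟨g, hg⟩, rfl, hgg⟩ | exact ⟨⟨g, hg⟩, hgg, rfl⟩

theorem odd_card (h2 : MulAction.IsPretransitive G (Set.powersetCard α 2))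
    (hn2 : ¬ MulAction.IsMultiplyPretransitive G α 2) : Odd (Nat.card G) := by
  by_contra hodd
  rw [Nat.not_odd_iff_even, even_iff_two_dvd] at hodd
  haveI : Fact (Nat.Prime 2) := ⟨Nat.prime_two⟩
  obtain ⟨t, ht⟩ := exists_prime_orderOf_dvd_card' 2 hodd
  obtain ⟨x, hx⟩ : ∃ x, t • x ≠ x := by
    by_contra hh
    push Not at hh
    have : t = 1 := Subtype.ext (Equiv.ext fun y => hh y)
    rw [this, orderOf_one] at ht
    exact absurd ht (by norm_num)
  have htt : t • t • x = x := by
    rw [smul_smul, ← pow_two, ← ht, pow_orderOf_eq_one, one_smul]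
  -- any ordered pair comes from `(x, t x)`
  have key : ∀ {c d : α}, c ≠ d → ∃ g : G, g • x = c ∧ g • t • x = d := by
    intro c d hcd
    obtain ⟨g, h | h⟩ := pair_move h2 (Ne.symm hx) hcd
    · exact ⟨g, h⟩
    · exact ⟨g * t, by rw [mul_smul, h.2], by rw [mul_smul, htt, h.1]⟩
  refine hn2 (MulAction.is_two_pretransitive_iff.mpr fun {a b c d} hab hcd => ?_)
  obtain ⟨g, hg1, hg2⟩ := key hab
  obtain ⟨k, hk1, hk2⟩ := key hcd
  exact ⟨k * g⁻¹, by rw [mul_smul, inv_smul_eq_iff.mpr hg1.symm, hk1],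
    by rw [mul_smul, inv_smul_eq_iff.mpr hg2.symm, hk2]⟩

/-- A nontrivial normal subgroup is transitive. -/
theorem normal_transitive (h2 : MulAction.IsPretransitive G (Set.powersetCard α 2))
    {N : Subgroup G} (hN : N.Normal) (hne : N ≠ ⊥) : ∀ x y : α, ∃ v ∈ N, v • x = y := by
  obtain ⟨v, hv, hv1⟩ := (N.bot_or_exists_ne_one).resolve_left hne
  obtain ⟨a, ha⟩ : ∃ a, v • a ≠ a := by
    by_contra hh
    push Not at hh
    exact hv1 (Subtype.ext (Equiv.ext fun y => hh y))
  intro x y
  by_cases hxy : x = y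
  · exact ⟨1, one_mem _, by rw [one_smul, hxy]⟩
  obtain ⟨g, ⟨h1, h3⟩ | ⟨h1, h3⟩⟩ := pair_move h2 (Ne.symm ha) hxy
  · exact ⟨g * v * g⁻¹, hN.conj_mem v hv g,
      by rw [mul_smul, mul_smul, inv_smul_eq_iff.mpr h1.symm, h3]⟩
  · exact ⟨(g * v * g⁻¹)⁻¹, inv_mem (hN.conj_mem v hv g), by
      rw [inv_smul_eq_iff, mul_smul, mul_smul, inv_smul_eq_iff.mpr h1.symm, h3]⟩

/-- A transitive commutative normal subgroup is regular. -/
theorem regular {N : Subgroup G} (hc : IsMulCommutative N) (htr : ∀ x y : α, ∃ v ∈ N, v • x = y)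
    (x : α) : Function.Bijective fun v : N => (v : G) • x := by
  refine ⟨fun v w h => ?_, fun y => ?_⟩
  · refine Subtype.ext (Subtype.ext (Equiv.ext fun z => ?_))
    obtain ⟨u, hu, rfl⟩ := htr x z
    have hv : (v : G) * u = u * v := congrArg Subtype.val (hc.is_comm.comm v ⟨u, hu⟩)
    have hw : (w : G) * u = u * w := congrArg Subtype.val (hc.is_comm.comm w ⟨u, hu⟩)
    show (v : G) • u • x = (w : G) • u • x
    rw [smul_smul, smul_smul, hv, hw, mul_smul, mul_smul]
    exact congrArg _ h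
  · obtain ⟨v, hv, h⟩ := htr x y
    exact ⟨⟨v, hv⟩, h⟩

/-- The number of unordered pairs is odd, so the degree is `3` modulo `4`. -/
theorem card_mod_four (h2 : MulAction.IsPretransitive G (Set.powersetCard α 2))
    (hodd : Odd (Nat.card G)) (h3 : 3 ≤ Fintype.card α) (hn : Odd (Fintype.card α)) :
    Fintype.card α % 4 = 3 := by
  obtain ⟨s, hs⟩ := Finset.exists_subset_card_eq (s := (Finset.univ : Finset α)) (n := 2)
    (by rw [Finset.card_univ]; omega)
  have h := (MulAction.stabilizer G (⟨s, hs.2⟩ : Set.powersetCard α 2)).index_dvd_card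
  rw [MulAction.index_stabilizer_of_transitive G (⟨s, hs.2⟩ : Set.powersetCard α 2)] at h
  have hcard : Nat.card (Set.powersetCard α 2) = (Fintype.card α).choose 2 := by
    rw [Set.powersetCard.card, Nat.card_eq_fintype_card]
  rw [hcard] at h
  have hch := hodd.of_dvd_nat h
  rw [Nat.choose_two_right] at hch
  obtain ⟨k, hk⟩ := hn
  rw [hk] at hch ⊢
  have e : (2 * k + 1) * (2 * k + 1 - 1) / 2 = (2 * k + 1) * k := by
    rw [show 2 * k + 1 - 1 = k * 2 by omega, ← mul_assoc, Nat.mul_div_cancel _ two_pos]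
  rw [e] at hch
  obtain ⟨j, hj⟩ := (Nat.odd_mul.mp hch).2
  omega

section Rep

variable {X : Type u} [Group X] (N : Subgroup X) [N.Normal] [IsMulCommutative N]

/-- A commutative subgroup as a commutative group. -/
@[reducible] def commN : CommGroup N :=
  { (inferInstance : Group N) with mul_comm := fun a b => mul_comm' a b }

attribute [local instance] commN

/-- Conjugation on a commutative normal subgroup, as an additive endomorphism. -/
def conjEnd : X →* AddMonoid.End (Additive N) where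
  toFun g := MonoidHom.toAdditive (MulAut.conjNormal g : MulAut N).toMonoidHom
  map_one' := AddMonoidHom.ext fun v => by
    show Additive.ofMul ((MulAut.conjNormal (1 : X) : MulAut N) (Additive.toMul v)) = v
    rw [map_one]; rfl
  map_mul' g k := AddMonoidHom.ext fun v => by
    show Additive.ofMul ((MulAut.conjNormal (g * k) : MulAut N) (Additive.toMul v)) = _
    rw [map_mul]; rfl

theorem conjEnd_apply (g : X) (v : Additive N) :
    ((Additive.toMul (conjEnd N g v) : N) : X) = g * (Additive.toMul v : N) * g⁻¹ :=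
  MulAut.conjNormal_apply g (Additive.toMul v)

/-- Signs times conjugation. -/
def signEnd : X × ℤˣ →* AddMonoid.End (Additive N) where
  toFun x := ((x.2 : ℤ) : AddMonoid.End (Additive N)) * conjEnd N x.1
  map_one' := by simp
  map_mul' x y := by
    rw [Prod.snd_mul, Prod.fst_mul, Units.val_mul, Int.cast_mul, map_mul, mul_assoc, mul_assoc]
    congr 1
    rw [← mul_assoc, ← mul_assoc, (Int.cast_commute (y.2 : ℤ) (conjEnd N x.1)).eq]

theorem signEnd_one (g : X) : signEnd N (g, 1) = conjEnd N g := by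
  show ((((1 : ℤˣ) : ℤ)) : AddMonoid.End (Additive N)) * _ = _
  simp

theorem signEnd_neg (g : X) (v : Additive N) : signEnd N (g, -1) v = -conjEnd N g v := by
  show (((((-1 : ℤˣ)) : ℤ) : AddMonoid.End (Additive N)) * conjEnd N g) v = _
  simp only [Units.val_neg, Units.val_one, Int.cast_neg, Int.cast_one, neg_one_mul]
  rfl

end Rep

/-- The classification. -/
theorem main (hoo : ∀ (X : Type u) [Group X] [Finite X], Odd (Nat.card X) → Group.IsSolvable X)
    (hne : G ≠ ⊥) (h2 : MulAction.IsPretransitive G (Set.powersetCard α 2))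
    (hn2 : ¬ MulAction.IsMultiplyPretransitive G α 2) :
    Odd (Nat.card G) ∧ ∃ (p f : ℕ) (_ : Fact p.Prime), p ≠ 2 ∧ Fintype.card α = p ^ f ∧
      p ^ f % 4 = 3 ∧ ∃ e : α ≃ GaloisField p f,
        (∀ g : G, e.symm.trans (((g : Equiv.Perm α)).trans e) ∈
          Cfsg.semiaffineGroup (GaloisField p f)) ∧
        ∀ b : GaloisField p f, ∃ g : G, ∀ x : α, e ((g : Equiv.Perm α) x) = e x + b := by
  classical
  have hodd := odd_card h2 hn2
  refine ⟨hodd, ?_⟩
  have h3 := three_le_card hne hn2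
  haveI : Group.IsSolvable G := hoo G hodd
  haveI : Nontrivial G := (Subgroup.nontrivial_iff_ne_bot G).mpr hne
  obtain ⟨N, hNn, hNe, hNmin⟩ := CfsgLib.Solvable.exists_minimal_normal (G := G)
  haveI := hNn
  haveI hNc : IsMulCommutative N :=
    CfsgLib.Solvable.isMulCommutative_of_minimal_normal hNe hNmin
  obtain ⟨p, hp, hexp⟩ := CfsgLib.Solvable.exists_prime_pow_eq_one_of_minimal_normal hNe hNmin
  haveI := Fact.mk hp
  have htr := normal_transitive h2 hNn hNe
  obtain ⟨x₀⟩ : Nonempty α := Fintype.card_pos_iff.mp (by omega)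
  have hreg := regular hNc htr x₀
  let B : N ≃ α := Equiv.ofBijective _ hreg
  have hB : ∀ v : N, B v = (v : G) • x₀ := fun _ => rfl
  have hcardN : Nat.card N = Fintype.card α := by rw [Nat.card_congr B, Nat.card_eq_fintype_card]
  have hpg : IsPGroup p N := fun v => ⟨1, Subtype.ext (by simpa using hexp v v.2)⟩
  obtain ⟨f, hf⟩ := IsPGroup.iff_card.mp hpg
  rw [hcardN] at hf
  have hf0 : 0 < f := by
    rcases Nat.eq_zero_or_pos f with h | h
    · rw [h, pow_zero] at hf; omega
    · exact h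
  have hnodd : Odd (Fintype.card α) := hcardN ▸ hodd.of_dvd_nat N.card_subgroup_dvd_card
  have hp2 : p ≠ 2 := by
    rintro rfl
    exact Nat.not_even_iff_odd.mpr hnodd (hf ▸ (Nat.even_pow.mpr ⟨even_two, hf0.ne'⟩))
  have hmod := card_mod_four h2 hodd h3 hnodd
  refine ⟨p, f, inferInstance, hp2, hf, hf ▸ hmod, ?_⟩
  -- the module and the linear group
  letI : CommGroup N := commN N
  set H := MulAction.stabilizer G x₀ with hH
  haveI : Group.IsSolvable H := inferInstance
  let φ : H × ℤˣ →* AddMonoid.End (Additive N) :=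
    (signEnd N).comp (MonoidHom.prodMap H.subtype (MonoidHom.id ℤˣ))
  have hφ : ∀ (h : H) (ε : ℤˣ), φ (h, ε) = signEnd N ((h : G), ε) := fun _ _ => rfl
  have hcj := conjEnd_apply N
  obtain ⟨v₀, hv₀, hv₀1⟩ := (N.bot_or_exists_ne_one).resolve_left hNe
  have hker : ∀ h : H, conjEnd N (h : G) = 1 → h = 1 := by
    intro h hh
    refine Subtype.ext (Subtype.ext (Equiv.ext fun z => ?_))
    obtain ⟨v, hv, rfl⟩ := htr x₀ z
    have h1 := hcj (h : G) (Additive.ofMul (⟨v, hv⟩ : N))
    rw [hh] at h1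
    have h2' : v = (h : G) * v * (h : G)⁻¹ := h1
    show (h : G) • v • x₀ = v • x₀
    rw [smul_smul, mul_inv_eq_iff_eq_mul.mp h2'.symm, mul_smul]
    exact congrArg _ h.2
  have hinj : Function.Injective φ := by
    rw [injective_iff_map_eq_one]
    rintro ⟨h, ε⟩ he
    rcases Int.units_eq_one_or ε with rfl | rfl
    · rw [hφ, signEnd_one] at he
      rw [hker h he]; rfl
    · exfalso
      have e1 := congrArg φ (show ((1 : H), (-1 : ℤˣ)) = (h, -1) ^ Nat.card H by
        rw [Prod.pow_mk, pow_card_eq_one', (hodd.of_dvd_nat H.card_subgroup_dvd_card).neg_one_pow])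
      rw [map_pow, he, one_pow, hφ] at e1
      have h4 := signEnd_neg N ((1 : H) : G) (Additive.ofMul (⟨v₀, hv₀⟩ : N))
      rw [e1, OneMemClass.coe_one, map_one] at h4
      have h5 : v₀ = v₀⁻¹ := congrArg (fun w : Additive N => ((Additive.toMul w : N) : G)) h4
      have h6 : v₀ ^ 2 = 1 := by rw [pow_two]; nth_rw 2 [h5]; exact mul_inv_cancel v₀
      have h7 : orderOf v₀ ∣ Nat.gcd 2 p :=
        Nat.dvd_gcd (orderOf_dvd_of_pow_eq_one h6) (orderOf_dvd_of_pow_eq_one (hexp v₀ hv₀))
      rw [(Nat.coprime_primes Nat.prime_two hp).mpr (Ne.symm hp2), Nat.dvd_one, orderOf_eq_one_iff] at h7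
      exact hv₀1 h7
  have htrans : ∀ v w : Additive N, v ≠ 0 → w ≠ 0 → ∃ g : H × ℤˣ, φ g v = w := by
    intro v w hv hw
    set a : N := Additive.toMul v
    set b : N := Additive.toMul w
    have ha : x₀ ≠ B a := fun e => hv (Additive.toMul.injective (B.injective (by
      show B a = B 1
      rw [← e, hB, OneMemClass.coe_one, one_smul])))
    have hb : x₀ ≠ B b := fun e => hw (Additive.toMul.injective (B.injective (by
      show B b = B 1
      rw [← e, hB, OneMemClass.coe_one, one_smul])))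
    obtain ⟨g, ⟨h1, h4⟩ | ⟨h1, h4⟩⟩ := pair_move h2 ha hb
    · refine ⟨(⟨g, h1⟩, 1), Additive.toMul.injective (B.injective ?_)⟩
      rw [hφ, signEnd_one, hB, hcj, mul_smul, mul_smul, inv_smul_eq_iff.mpr h1.symm, ← hB, h4]
    · -- translate back
      have hh : ((b : G)⁻¹ * g) • x₀ = x₀ := by rw [mul_smul, h1, hB, inv_smul_smul]
      refine ⟨(⟨(b : G)⁻¹ * g, hh⟩, -1), ?_⟩
      rw [hφ, signEnd_neg, neg_eq_iff_eq_neg]
      refine Additive.toMul.injective (B.injective ?_)
      rw [hB, hB]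
      show ((Additive.toMul (conjEnd N ((b : G)⁻¹ * g) v) : N) : G) • x₀ = ((b⁻¹ : N) : G) • x₀
      rw [hcj, mul_smul, mul_smul, inv_smul_eq_iff.mpr hh.symm, ← hB, mul_smul, h4,
        InvMemClass.coe_inv]
  have hV : Nat.card (Additive N) = p ^ f := by
    rw [Nat.card_congr Additive.toMul, hcardN, hf]
  have hVexp : ∀ v : Additive N, p • v = 0 := fun v => Additive.toMul.injective (Subtype.ext (by
    simpa using hexp (Additive.toMul v : N) (Additive.toMul v).2))
  rcases CfsgLib.StructC.Huppert.main φ hinj hp hf0 hV hVexp htrans with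
    ⟨A, hA, hAc, hAinj, hAcard⟩ | hex
  swap
  · exfalso
    simp only [Set.mem_insert_iff, Set.mem_singleton_iff, ← hf] at hex
    omega
  haveI := hA
  obtain ⟨F, iF, iFt, e₀, he₀⟩ :=
    CfsgLib.StructC.Huppert.semilinear_of_field φ hp hf0 hV A hAc hAinj hAcard
  letI := Fintype.ofFinite (GaloisField p f)
  let ψ : F ≃+* GaloisField p f := FiniteField.ringEquivOfCardEq (by
    rw [← Nat.card_congr e₀.toEquiv |>.trans Nat.card_eq_fintype_card, hV,
      ← Nat.card_eq_fintype_card, GaloisField.card p f hf0.ne'])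
  let e₁ : Additive N ≃+ GaloisField p f := e₀.trans ψ.toAddEquiv
  let e : α ≃ GaloisField p f := B.symm.trans (Additive.ofMul.trans e₁.toEquiv)
  have heB : ∀ v : N, e (B v) = e₁ (Additive.ofMul v) := fun v => by simp [e]
  refine ⟨e, fun g => ?_, fun b => ?_⟩
  · set v : N := B.symm (g • x₀)
    have hh : ((v : G)⁻¹ * g) • x₀ = x₀ := by
      have hv' : (v : G) • x₀ = g • x₀ := B.apply_symm_apply _
      rw [mul_smul, ← hv', inv_smul_smul]
    obtain ⟨a, σ, haσ⟩ := he₀ (⟨(v : G)⁻¹ * g, hh⟩, 1)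
    have hav : ∀ w : Additive N,
        e₁ (conjEnd N ((v : G)⁻¹ * g) w) = ψ a * (ψ.symm.trans (σ.trans ψ)) (e₁ w) := by
      intro w
      have e2 : φ (⟨(v : G)⁻¹ * g, hh⟩, (1 : ℤˣ)) w = conjEnd N ((v : G)⁻¹ * g) w := by
        rw [hφ, signEnd_one]
      rw [← e2]
      show ψ (e₀ _) = ψ a * ψ (σ (ψ.symm (ψ (e₀ w))))
      rw [haσ w, ψ.symm_apply_apply, map_mul]
    have ha : ψ a ≠ 0 := fun h0 => by
      haveI : Nontrivial (Additive N) := (Subgroup.nontrivial_iff_ne_bot N).mpr hNe
      obtain ⟨w, hw⟩ := exists_ne (0 : Additive N)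
      have hw' : φ (⟨(v : G)⁻¹ * g, hh⟩, 1) w = 0 := e₀.injective (by
        rw [haσ w, ψ.injective (h0.trans (map_zero ψ).symm), zero_mul, map_zero])
      refine hw ?_
      set y : H × ℤˣ := (⟨(v : G)⁻¹ * g, hh⟩, 1)
      have e3 : φ y⁻¹ * φ y = 1 := by rw [← map_mul, inv_mul_cancel, map_one]
      have e4 := congrArg (fun F : AddMonoid.End (Additive N) => F w) e3
      simp only [AddMonoid.End.coe_mul, AddMonoid.End.coe_one, Function.comp_apply, id_eq] at e4
      rw [hw', map_zero] at e4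
      exact e4.symm
    refine ⟨Units.mk0 (ψ a) ha, e₁ (Additive.ofMul v), ψ.symm.trans (σ.trans ψ), fun x => ?_⟩
    obtain ⟨w, rfl⟩ := (e.surjective x)
    obtain ⟨u, rfl⟩ := B.surjective w
    show e (g • e.symm (e (B u))) = _
    rw [e.symm_apply_apply, heB, Units.val_mk0, ← hav]
    set c : N := Additive.toMul (conjEnd N ((v : G)⁻¹ * g) (Additive.ofMul u)) with hc
    have hcu : g • B u = B (v * c) := by
      rw [hB, hB, Subgroup.coe_mul, hc, hcj, mul_smul, mul_smul, mul_smul,
        inv_smul_eq_iff.mpr hh.symm, mul_smul, smul_inv_smul]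
      rfl
    rw [hcu, heB, ofMul_mul, map_add, add_comm]
    rfl
  · set v : N := Additive.toMul (e₁.symm b) with hv
    refine ⟨(v : G), fun x => ?_⟩
    obtain ⟨u, rfl⟩ := B.surjective x
    have hcu : ((v : G) : Equiv.Perm α) (B u) = B (v * u) := by
      rw [hB, hB, Subgroup.coe_mul, mul_smul]; rfl
    rw [hcu, heB, heB, ofMul_mul, map_add, hv, ofMul_toMul, e₁.apply_symm_apply, add_comm]

end CfsgLib.FT.TwoHomogeneous
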